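import Mathlib

/-! Groups `M^k ⋊ G` with the same prime graph as `G`. -/

set_option autoImplicit false

namespace Cfsg.Agent.Lib.PrimeGraph.Unbounded

variable {G : Type*} [Group G] {M : Type*} [CommGroup M]

/-- diagonal action on `Fin k → M` -/
def powAction (φ : G →* MulAut M) (k : ℕ) : G →* MulAut (Fin k → M) where
  toFun g := MulEquiv.piCongrRight fun _ => φ g
  map_one' := by ext f i; simp [MulEquiv.piCongrRight]
  map_mul' a b := by ext f i; simp [MulEquiv.piCongrRight]; rfl

theorem powAction_apply (φ : G →* MulAut M) (k : ℕ) (g : G) (f : Fin k → M) (i : Fin k) :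
    powAction φ k g f i = φ g (f i) := rfl

theorem orderOf_dvd_prime_eq {G' : Type*} [Monoid G'] {r : ℕ} (hr : r.Prime) {g : G'}
    (hd : orderOf g ∣ r) (h1 : g ≠ 1) : orderOf g = r := by
  rcases (Nat.dvd_prime hr).1 hd with h | h
  · exact absurd (orderOf_eq_one_iff.1 h) h1
  · exact h

/-- If `G` has `p` in its spectrum of primes and every prime-order element of order `q ≠ p` that
fixes a nontrivial point of the `p`-module `M` comes with an element of order `p * q`, then
arbitrarily large groups have the prime graph of `G`. -/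
theorem exists_large_same_graph [Finite G] [Finite M] [Nontrivial M] {p : ℕ} (hp : p.Prime)
    (hpG : p ∣ Nat.card G) (hM : IsPGroup p M) (φ : G →* MulAut M)
    (hfix : ∀ q : ℕ, q.Prime → q ≠ p → ∀ g : G, orderOf g = q → ∀ m : M, φ g m = m → m ≠ 1 →
      ∃ x : G, orderOf x = p * q)
    (N : ℕ) :
    ∃ (H : Type) (_ : Group H) (_ : Fintype H), N < Nat.card H ∧
      (∀ r : ℕ, r.Prime → (r ∣ Nat.card G ↔ r ∣ Nat.card H)) ∧
      (∀ r s : ℕ, r.Prime → s.Prime → r ≠ s →
        ((∃ g : G, orderOf g = r * s) ↔ (∃ h : H, orderOf h = r * s))) := by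
  haveI := Fact.mk hp
  set k := N + 1 with hk
  let X := (Fin k → M) ⋊[powAction φ k] G
  haveI : Finite X := Finite.of_equiv _ SemidirectProduct.equivProd.symm
  haveI : Small.{0} X := Countable.toSmall X
  let E : X ≃* Shrink.{0} X := Shrink.mulEquiv.symm
  haveI : Finite (Shrink.{0} X) := Finite.of_equiv X E.toEquiv
  letI : Fintype (Shrink.{0} X) := Fintype.ofFinite _
  have hcX : Nat.card X = Nat.card (Shrink.{0} X) := Nat.card_congr E.toEquiv
  refine ⟨Shrink.{0} X, inferInstance, inferInstance, ?_, ?_, ?_⟩
  · rw [← hcX, SemidirectProduct.card, Nat.card_pi]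
    simp only [Finset.prod_const, Finset.card_univ, Fintype.card_fin]
    have h2 : 2 ≤ Nat.card M := Finite.one_lt_card
    have : N < Nat.card M ^ k := calc
      N < 2 ^ k := lt_of_lt_of_le (Nat.lt_two_pow_self) (Nat.pow_le_pow_right (by norm_num) (by omega))
      _ ≤ Nat.card M ^ k := Nat.pow_le_pow_left h2 k
    calc N < Nat.card M ^ k := this
      _ ≤ Nat.card M ^ k * Nat.card G := Nat.le_mul_of_pos_right _ Nat.card_pos
  · intro r hr
    rw [← hcX, SemidirectProduct.card, Nat.card_pi]
    simp only [Finset.prod_const, Finset.card_univ, Fintype.card_fin]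
    refine ⟨fun h => Dvd.dvd.mul_left h _, fun h => ?_⟩
    rcases (Nat.Prime.dvd_mul hr).1 h with h | h
    · obtain ⟨a, ha⟩ := IsPGroup.iff_card.1 hM
      rw [ha, ← pow_mul] at h
      obtain rfl := (Nat.prime_dvd_prime_iff_eq hr hp).1 (hr.dvd_of_dvd_pow h)
      exact hpG
    · exact h
  · intro r s hr hs hrs
    constructor
    · rintro ⟨g, hg⟩
      exact ⟨E (SemidirectProduct.inr g), by
        rw [E.orderOf_eq,
          orderOf_injective SemidirectProduct.inr SemidirectProduct.inr_injective, hg]⟩
    · rintro ⟨h, hh⟩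
      obtain ⟨x, rfl⟩ := E.surjective h
      rw [E.orderOf_eq] at hh
      have hpi : IsPGroup p (Fin k → M) := by
        obtain ⟨a, ha⟩ := IsPGroup.iff_card.1 hM
        refine IsPGroup.of_card (n := a * k) ?_
        rw [Nat.card_pi]
        simp [ha, pow_mul]
      set π : X →* G := SemidirectProduct.rightHom with hπ
      have key : ∀ r s : ℕ, r.Prime → s.Prime → orderOf x = r * s → r ≠ p →
          orderOf (π (x ^ s)) = r := by
        intro r s hr hs ho hrp
        have hox : orderOf (x ^ s) = r := by
          rw [orderOf_pow_of_dvd hs.ne_zero (ho ▸ dvd_mul_left s r), ho, Nat.mul_div_cancel _ hs.pos]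
        refine orderOf_dvd_prime_eq hr (hox ▸ orderOf_map_dvd π _) fun h1 => ?_
        have hmem : x ^ s ∈ π.ker := h1
        rw [hπ, ← SemidirectProduct.range_inl_eq_ker_rightHom] at hmem
        obtain ⟨m, hm⟩ := hmem
        obtain ⟨a, ha⟩ := IsPGroup.iff_orderOf.1 hpi m
        rw [← hm, orderOf_injective _ SemidirectProduct.inl_injective, ha] at hox
        rcases a with _ | a
        · exact hr.ne_one (by simpa using hox.symm)
        · have : p ∣ r := hox ▸ dvd_pow_self p (Nat.succ_ne_zero a)
          exact hrp ((Nat.prime_dvd_prime_iff_eq hp hr).1 this).symm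
      have main : ∀ r s : ℕ, r.Prime → s.Prime → r ≠ s → orderOf x = r * s → s ≠ p →
          ∃ g : G, orderOf g = r * s := by
        intro r s hr hs hrs ho hsp
        have hgs : orderOf (π (x ^ r)) = s := key s r hs hr (by rw [ho, mul_comm]) hsp
        have hzr : orderOf (x ^ s) = r := by
          rw [orderOf_pow_of_dvd hs.ne_zero (ho ▸ dvd_mul_left s r), ho, Nat.mul_div_cancel _ hs.pos]
        have hcomm : Commute (x ^ s) (x ^ r) := (Commute.refl x).pow_pow s r
        by_cases hz : π (x ^ s) = 1
        · have hrp : r = p := by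
            by_contra hrp
            have := key r s hr hs ho hrp
            rw [hz, orderOf_one] at this
            exact hr.ne_one this.symm
          subst hrp
          have hmem : x ^ s ∈ π.ker := hz
          rw [hπ, ← SemidirectProduct.range_inl_eq_ker_rightHom] at hmem
          obtain ⟨m, hm⟩ := hmem
          have hm1 : m ≠ 1 := by
            rintro rfl
            rw [← hm, map_one, orderOf_one] at hzr
            exact hr.ne_one hzr.symm
          obtain ⟨i, hi⟩ := Function.ne_iff.1 hm1
          have heq := congrArg SemidirectProduct.left hcomm.eq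
          rw [← hm, SemidirectProduct.mul_left, SemidirectProduct.mul_left,
            SemidirectProduct.left_inl, SemidirectProduct.right_inl, map_one, MulAut.one_apply] at heq
          have hfixm : powAction φ k (π (x ^ r)) m = m := by
            rw [mul_comm m] at heq
            exact (mul_left_cancel heq).symm
          exact hfix s hs hsp _ hgs (m i) (congrFun hfixm i) hi
        · refine ⟨π (x ^ s) * π (x ^ r), ?_⟩
          have h1 : orderOf (π (x ^ s)) = r :=
            orderOf_dvd_prime_eq hr (hzr ▸ orderOf_map_dvd π _) hz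
          rw [Commute.orderOf_mul_eq_mul_orderOf_of_coprime (hcomm.map π)
            (by rw [h1, hgs]; exact (Nat.coprime_primes hr hs).2 hrs), h1, hgs]
      by_cases hsp : s = p
      · obtain ⟨g, hg⟩ := main s r hs hr hrs.symm (by rw [hh, mul_comm]) (by omega)
        exact ⟨g, by rw [hg, mul_comm]⟩
      · exact main r s hr hs hrs hh hsp

end Cfsg.Agent.Lib.PrimeGraph.Unbounded
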