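import Mathlib
import Cfsg.Agent.Lib.Linear.Order
import Cfsg.Agent.Lib.PrimeGraph.Unbounded

/-! Elementary facts about `SL₂` used for prime graphs: powers by the trace recursion, the natural
module in characteristic 2. -/

set_option autoImplicit false

namespace Cfsg.Agent.Lib.PrimeGraph.SL2

open Matrix

variable {R : Type*} [CommRing R]

/-- `(a, b)` with `g ^ n = a • g + b • 1` for a 2×2 matrix of determinant one and trace `t`. -/
def pw (t : R) : ℕ → R × R
  | 0 => (0, 1)
  | n + 1 => (t * (pw t n).1 + (pw t n).2, -(pw t n).1)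

theorem sq_eq (g : Matrix (Fin 2) (Fin 2) R) (hg : g.det = 1) :
    g * g = g.trace • g - 1 := by
  rw [Matrix.det_fin_two] at hg
  ext i j
  fin_cases i <;> fin_cases j <;>
    simp [Matrix.mul_apply, Fin.sum_univ_two, Matrix.trace_fin_two] <;>
    first
      | linear_combination -hg
      | ring

theorem pow_eq (g : Matrix (Fin 2) (Fin 2) R) (hg : g.det = 1) (n : ℕ) :
    g ^ n = (pw g.trace n).1 • g + (pw g.trace n).2 • (1 : Matrix (Fin 2) (Fin 2) R) := by
  induction n with
  | zero => simp [pw]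
  | succ n ih =>
    rw [pow_succ, ih, add_mul, smul_mul_assoc, smul_mul_assoc, one_mul, sq_eq g hg]
    simp only [pw]
    ext i j
    simp only [Matrix.add_apply, Matrix.smul_apply, Matrix.sub_apply, smul_eq_mul]
    ring

theorem map_pw {S : Type*} [CommRing S] (f : R →+* S) (t : R) (n : ℕ) :
    pw (f t) n = (f (pw t n).1, f (pw t n).2) := by
  induction n with
  | zero => simp [pw]
  | succ n ih => simp [pw, ih]

variable {F : Type*} [Field F]

theorem pow_eq_one_of_pw (g : Matrix.SpecialLinearGroup (Fin 2) F) {n : ℕ}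
    (h : pw g.1.trace n = (0, 1)) : g ^ n = 1 := by
  apply Subtype.ext
  rw [Matrix.SpecialLinearGroup.coe_pow, pow_eq g.1 g.2 n, h, zero_smul, zero_add, one_smul]
  rfl

theorem pow_mem_center_of_pw (g : Matrix.SpecialLinearGroup (Fin 2) F) {n : ℕ}
    (h : (pw g.1.trace n).1 = 0) :
    g ^ n ∈ Subgroup.center (Matrix.SpecialLinearGroup (Fin 2) F) := by
  have e : (g ^ n).1 = (pw g.1.trace n).2 • (1 : Matrix (Fin 2) (Fin 2) F) := by
    rw [Matrix.SpecialLinearGroup.coe_pow, pow_eq g.1 g.2 n, h, zero_smul, zero_add]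
  rw [Subgroup.mem_center_iff]
  intro x
  apply Subtype.ext
  rw [Matrix.SpecialLinearGroup.coe_mul, Matrix.SpecialLinearGroup.coe_mul, e]
  simp

/-- natural action of `SL₂` on column vectors, multiplicatively written -/
def natAct : Matrix.SpecialLinearGroup (Fin 2) F →* MulAut (Multiplicative (Fin 2 → F)) where
  toFun g :=
    { toFun := fun v => Multiplicative.ofAdd (g.1 *ᵥ Multiplicative.toAdd v)
      invFun := fun v => Multiplicative.ofAdd ((g⁻¹).1 *ᵥ Multiplicative.toAdd v)
      left_inv := fun v => by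
        show Multiplicative.ofAdd ((g⁻¹).1 *ᵥ (g.1 *ᵥ Multiplicative.toAdd v)) = v
        rw [Matrix.mulVec_mulVec, ← Matrix.SpecialLinearGroup.coe_mul, inv_mul_cancel,
          Matrix.SpecialLinearGroup.coe_one, Matrix.one_mulVec, ofAdd_toAdd]
      right_inv := fun v => by
        show Multiplicative.ofAdd (g.1 *ᵥ ((g⁻¹).1 *ᵥ Multiplicative.toAdd v)) = v
        rw [Matrix.mulVec_mulVec, ← Matrix.SpecialLinearGroup.coe_mul, mul_inv_cancel,
          Matrix.SpecialLinearGroup.coe_one, Matrix.one_mulVec, ofAdd_toAdd]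
      map_mul' := fun v w => by
        show Multiplicative.ofAdd (g.1 *ᵥ (Multiplicative.toAdd v + Multiplicative.toAdd w)) = _
        rw [Matrix.mulVec_add, ofAdd_add] }
  map_one' := by
    apply MulEquiv.ext
    intro v
    show Multiplicative.ofAdd ((1 : Matrix.SpecialLinearGroup (Fin 2) F).1 *ᵥ Multiplicative.toAdd v) = v
    rw [Matrix.SpecialLinearGroup.coe_one, Matrix.one_mulVec, ofAdd_toAdd]
  map_mul' a b := by
    apply MulEquiv.ext
    intro v
    show Multiplicative.ofAdd ((a * b).1 *ᵥ Multiplicative.toAdd v) =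
      Multiplicative.ofAdd (a.1 *ᵥ (b.1 *ᵥ Multiplicative.toAdd v))
    rw [Matrix.SpecialLinearGroup.coe_mul, Matrix.mulVec_mulVec]

theorem sq_eq_one_of_fixed [CharP F 2] (g : Matrix.SpecialLinearGroup (Fin 2) F)
    {v : Fin 2 → F} (hv : v ≠ 0) (hfix : g.1 *ᵥ v = v) : g ^ 2 = 1 := by
  have h2 : (2 : F) = 0 := CharTwo.two_eq_zero
  have hd : (g.1 - 1).det = 0 :=
    Matrix.exists_mulVec_eq_zero_iff.1 ⟨v, hv, by rw [Matrix.sub_mulVec, hfix, Matrix.one_mulVec, sub_self]⟩
  have hg := g.2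
  rw [Matrix.det_fin_two] at hd hg
  simp at hd
  have ht : g.1.trace = 0 := by
    rw [Matrix.trace_fin_two]
    linear_combination -hd + hg + h2
  apply pow_eq_one_of_pw
  rw [ht]
  simp [pw, CharTwo.neg_eq]

theorem center_eq_bot [Finite F] [CharP F 2] :
    Subgroup.center (Matrix.SpecialLinearGroup (Fin 2) F) = ⊥ := by
  haveI := Fintype.ofFinite F
  obtain ⟨⟨n, hn⟩, _, hc⟩ := FiniteField.card F 2
  rw [← Subgroup.card_eq_one, Lib.Linear.card_center_SL, Nat.card_eq_fintype_card, hc]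
  simp only [PNat.mk_coe, Fintype.card_fin]
  apply Nat.coprime_two_left.2
  obtain ⟨k, rfl⟩ : ∃ k, n = k + 1 := ⟨n - 1, by omega⟩
  exact ⟨2 ^ k - 1, by have := Nat.one_le_two_pow (n := k); rw [pow_succ]; omega⟩

/-- `SL₂(F) ≃* PSL₂(F)` in characteristic two -/
noncomputable def slEquivPSL [Finite F] [CharP F 2] :
    Matrix.SpecialLinearGroup (Fin 2) F ≃* Matrix.ProjectiveSpecialLinearGroup (Fin 2) F :=
  MulEquiv.ofBijective (QuotientGroup.mk' (Subgroup.center (Matrix.SpecialLinearGroup (Fin 2) F)))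
    ⟨(MonoidHom.ker_eq_bot_iff _).1 (by rw [QuotientGroup.ker_mk', center_eq_bot]),
      QuotientGroup.mk'_surjective _⟩

theorem two_dvd_card [Finite F] [CharP F 2] :
    2 ∣ Nat.card (Matrix.SpecialLinearGroup (Fin 2) F) := by
  haveI := Fact.mk Nat.prime_two
  let T : Matrix.SpecialLinearGroup (Fin 2) F := ⟨!![1, 1; 0, 1], by simp [Matrix.det_fin_two]⟩
  have : orderOf T = 2 := by
    refine orderOf_eq_prime ?_ ?_
    · refine pow_eq_one_of_pw T ?_
      simp [T, Matrix.trace_fin_two, pw, CharTwo.add_self_eq_zero, CharTwo.neg_eq]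
    · intro h
      have := congrFun (congrFun (congrArg Subtype.val h) 0) 1
      simp [T] at this
  simpa [this] using orderOf_dvd_natCard T

/-- groups of unbounded order with the prime graph of `SL₂` over a finite field of char 2 -/
theorem large_same_graph [Finite F] [CharP F 2] (N : ℕ) :
    ∃ (H : Type) (_ : Group H) (_ : Fintype H), N < Nat.card H ∧
      (∀ r : ℕ, r.Prime → (r ∣ Nat.card (Matrix.SpecialLinearGroup (Fin 2) F) ↔ r ∣ Nat.card H)) ∧
      (∀ r s : ℕ, r.Prime → s.Prime → r ≠ s →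
        ((∃ g : Matrix.SpecialLinearGroup (Fin 2) F, orderOf g = r * s) ↔
          (∃ h : H, orderOf h = r * s))) := by
  refine Unbounded.exists_large_same_graph Nat.prime_two two_dvd_card
    (M := Multiplicative (Fin 2 → F))
    (fun v => ⟨1, by rw [pow_one, sq]; ext; simp [CharTwo.add_self_eq_zero]⟩) natAct
    (fun q hq hq2 g hg v hv hv1 => ?_) N
  exfalso
  have hd := orderOf_dvd_of_pow_eq_one
    (sq_eq_one_of_fixed g (v := Multiplicative.toAdd v) (fun h => hv1 h)
      (congrArg Multiplicative.toAdd hv))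
  rw [hg] at hd
  exact hq2 ((Nat.prime_dvd_prime_iff_eq hq Nat.prime_two).1 hd)

/-- if every element is killed by one of finitely many exponents none of which is a multiple of
`r * s`, there is no element of order `r * s` -/
theorem no_orderOf {G : Type*} [Group G] (L : List ℕ) (h : ∀ g : G, ∃ n ∈ L, g ^ n = 1)
    (hL : ∀ n ∈ L, n ≠ 0 ∧ n.primeFactorsList.toFinset.card ≤ 1) {r s : ℕ} (hr : r.Prime)
    (hs : s.Prime) (hrs : r ≠ s) : ¬ ∃ g : G, orderOf g = r * s := by
  rintro ⟨g, hg⟩
  obtain ⟨n, hn, hgn⟩ := h g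
  have hd : r * s ∣ n := hg ▸ orderOf_dvd_of_pow_eq_one hgn
  obtain ⟨hn0, hc⟩ := hL n hn
  exact hrs (Finset.card_le_one.1 hc r
    (List.mem_toFinset.2 ((Nat.mem_primeFactorsList hn0).2 ⟨hr, (dvd_mul_right r s).trans hd⟩)) s
    (List.mem_toFinset.2 ((Nat.mem_primeFactorsList hn0).2 ⟨hs, (dvd_mul_left s r).trans hd⟩)))

end Cfsg.Agent.Lib.PrimeGraph.SL2
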