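import Mathlib
import Cfsg.Agent.Lib.Frobenius.FixedPointFree

/-! Three pairwise non-adjacent primes do not occur along a normal series with solvable bottom. -/

set_option autoImplicit false

namespace Cfsg.Agent.Lib.PrimeGraph.Three

open Cfsg.Agent.Lib.Frobenius
open scoped Pointwise IsMulCommutative commutatorElement

variable {G : Type*} [Group G] [Finite G]

/-- `n` is an element order -/
def HasOrder (G : Type*) [Group G] (n : ℕ) : Prop := ∃ x : G, orderOf x = n

theorem hasOrder_comm {p q : ℕ} (h : ¬ HasOrder G (p * q)) : ¬ HasOrder G (q * p) := by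
  rwa [mul_comm]

theorem hasOrder_of_dvd {g : G} {n : ℕ} (hn : n ≠ 0) (h : n ∣ orderOf g) : HasOrder G n := by
  obtain ⟨c, hc⟩ := h
  refine ⟨g ^ c, ?_⟩
  have hc0 : c ≠ 0 := by rintro rfl; exact (orderOf_pos g).ne' (by simpa using hc)
  rw [orderOf_pow_of_dvd hc0 (hc ▸ dvd_mul_left c n), hc, Nat.mul_div_cancel _ (Nat.pos_of_ne_zero hc0)]

/-- centre of a subgroup, as a subgroup of `G` -/
def zent (P : Subgroup G) : Subgroup G := (Subgroup.center ↥P).map P.subtype

omit [Finite G] in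
theorem mem_zent {P : Subgroup G} {y : G} : y ∈ zent P ↔ y ∈ P ∧ ∀ x ∈ P, x * y = y * x := by
  simp only [zent, Subgroup.mem_map, Subgroup.mem_center_iff]
  constructor
  · rintro ⟨⟨z, hz⟩, h, rfl⟩
    exact ⟨hz, fun x hx => congrArg Subtype.val (h ⟨x, hx⟩)⟩
  · rintro ⟨hy, h⟩
    exact ⟨⟨y, hy⟩, fun x => Subtype.ext (h x x.2), rfl⟩

omit [Finite G] in
theorem zent_comm (P : Subgroup G) : IsMulCommutative ↥(zent P) :=
  ⟨⟨fun a b => Subtype.ext ((mem_zent.1 b.2).2 _ (mem_zent.1 a.2).1)⟩⟩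

omit [Finite G] in
theorem normalizer_le_zent (P : Subgroup G) :
    Subgroup.normalizer (P : Set G) ≤ Subgroup.normalizer (zent P : Set G) := by
  intro g hg
  have key : ∀ g ∈ Subgroup.normalizer (P : Set G), ∀ y ∈ zent P, g * y * g⁻¹ ∈ zent P := by
    intro g hg y hy
    rw [mem_zent] at hy ⊢
    refine ⟨(Subgroup.mem_normalizer_iff.1 hg y).1 hy.1, fun x hx => ?_⟩
    have hx' : g⁻¹ * x * g ∈ P := by
      rw [Subgroup.mem_normalizer_iff.1 hg]; simpa [mul_assoc] using hx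
    calc x * (g * y * g⁻¹) = g * ((g⁻¹ * x * g) * y) * g⁻¹ := by group
      _ = g * (y * (g⁻¹ * x * g)) * g⁻¹ := by rw [hy.2 _ hx']
      _ = g * y * g⁻¹ * x := by group
  rw [Subgroup.mem_normalizer_iff]
  intro y
  refine ⟨key g hg y, fun h => ?_⟩
  simpa [mul_assoc] using key g⁻¹ (inv_mem hg) _ h

theorem zent_ne_bot {p : ℕ} [Fact p.Prime] {P : Subgroup G} (hP : IsPGroup p P) (h : P ≠ ⊥) :
    zent P ≠ ⊥ := by
  haveI := (Subgroup.nontrivial_iff_ne_bot P).2 h
  haveI := hP.center_nontrivial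
  rw [zent, Ne, Subgroup.map_eq_bot_iff_of_injective _ P.subtype_injective]
  exact (Subgroup.nontrivial_iff_ne_bot _).1 inferInstance

theorem inf_centralizer_eq_bot {p l : ℕ} (hp : p.Prime) (hl : l.Prime) (hne : l ≠ p)
    {V : Subgroup G} (hV : IsPGroup p V) (hno : ¬ HasOrder G (p * l)) {a : G} (ha : orderOf a = l) :
    V ⊓ Subgroup.centralizer {a} = ⊥ := by
  rw [Subgroup.eq_bot_iff_forall]
  rintro v ⟨hv, hc⟩
  by_contra hv1
  haveI := Fact.mk hp
  obtain ⟨k, hk⟩ := IsPGroup.iff_orderOf.1 hV ⟨v, hv⟩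
  rw [← Subgroup.orderOf_coe] at hk
  have hk0 : k ≠ 0 := by rintro rfl; exact hv1 (orderOf_eq_one_iff.1 (by simpa using hk))
  have hcom : Commute v a := (Subgroup.mem_centralizer_iff.1 hc a rfl).symm
  refine hno (hasOrder_of_dvd (g := v * a) (Nat.mul_ne_zero hp.ne_zero hl.ne_zero) ?_)
  rw [hcom.orderOf_mul_eq_mul_orderOf_of_coprime, hk, ha]
  · exact Nat.mul_dvd_mul_right (dvd_pow_self p hk0) _
  · rw [hk, ha]; exact Nat.Coprime.pow_left _ ((Nat.coprime_primes hp hl).2 hne.symm)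

theorem card_mul_relIndex' {H K : Subgroup G} (h : H ≤ K) :
    Nat.card H * H.relIndex K = Nat.card K := by
  rw [← Subgroup.relIndex_bot_left, ← Subgroup.relIndex_bot_left,
    Subgroup.relIndex_mul_relIndex _ _ _ bot_le h]

/-- No `(P, Q, z)` tower for three pairwise non-adjacent primes. -/
theorem no_tower {p q r : ℕ} (hp : p.Prime) (hq : q.Prime) (hr : r.Prime) (hpq : p ≠ q)
    (hpr : p ≠ r) (hqr : q ≠ r) (P Q : Subgroup G) (hP : IsPGroup p P) (hP1 : P ≠ ⊥)
    (hQ : IsPGroup q Q) (hQ1 : Q ≠ ⊥) (hQP : Q ≤ Subgroup.normalizer (P : Set G))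
    (z : G) (hz : orderOf z = r) (hzP : z ∈ Subgroup.normalizer (P : Set G))
    (hzQ : z ∈ Subgroup.normalizer (Q : Set G))
    (h1 : ¬ HasOrder G (p * q)) (h2 : ¬ HasOrder G (p * r)) (h3 : ¬ HasOrder G (q * r)) : False := by
  haveI := Fact.mk hp
  haveI := Fact.mk hq
  haveI := Fact.mk hr
  set V := zent P with hVd
  haveI : IsMulCommutative ↥V := zent_comm P
  have hVp : IsPGroup p V := hP.to_le fun y hy => (mem_zent.1 hy).1
  haveI : Nontrivial ↥V := (Subgroup.nontrivial_iff_ne_bot _).2 (zent_ne_bot hP hP1)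
  have hNV : Subgroup.normalizer (P : Set G) ≤ Subgroup.normalizer (V : Set G) := normalizer_le_zent P
  -- an element of order q in the centre of Q
  have hZQ : zent Q ≠ ⊥ := zent_ne_bot hQ hQ1
  obtain ⟨a, haZ, hoa⟩ : ∃ a ∈ zent Q, orderOf a = q := by
    obtain ⟨⟨c, hc⟩, hc1'⟩ := Subgroup.ne_bot_iff_exists_ne_one.1 hZQ
    have hc1 : c ≠ 1 := fun h => hc1' (Subtype.ext h)
    obtain ⟨k, hk⟩ := IsPGroup.iff_orderOf.1 (hQ.to_le fun y hy => (mem_zent.1 hy).1) ⟨c, hc⟩
    rw [← Subgroup.orderOf_coe] at hk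
    obtain ⟨j, rfl⟩ : ∃ j, k = j + 1 := ⟨k - 1, by
      rcases k with _ | k
      · exact absurd (orderOf_eq_one_iff.1 (by simpa using hk)) hc1
      · rfl⟩
    refine ⟨c ^ q ^ j, pow_mem hc _, ?_⟩
    rw [orderOf_pow_of_dvd (pow_ne_zero _ hq.ne_zero) (hk ▸ pow_dvd_pow q (Nat.le_succ j)), hk,
      pow_succ, Nat.mul_div_cancel_left _ (pow_pos hq.pos _)]
  have hcomm : ∀ x ∈ zent Q, ∀ y ∈ zent Q, x * y = y * x := fun x hx y hy =>
    (mem_zent.1 hy).2 x (mem_zent.1 hx).1
  set b := z * a * z⁻¹ with hb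
  have hbZ : b ∈ zent Q :=
    (Subgroup.mem_normalizer_iff.1 (normalizer_le_zent Q hzQ) a).1 haZ
  -- W = elements of order dividing q in the centre of Q
  let W : Subgroup G :=
    { carrier := {y | y ∈ zent Q ∧ y ^ q = 1}
      one_mem' := ⟨one_mem _, one_pow _⟩
      mul_mem' := fun {x y} hx hy => ⟨mul_mem hx.1 hy.1, by
        rw [(show Commute x y from hcomm x hx.1 y hy.1).mul_pow, hx.2, hy.2, one_mul]⟩
      inv_mem' := fun {x} hx => ⟨inv_mem hx.1, by rw [inv_pow, hx.2, inv_one]⟩ }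
  have hWN : W ≤ Subgroup.normalizer (V : Set G) := fun y hy => hNV (hQP (mem_zent.1 hy.1).1)
  have hWf := isFPF_conj hWN fun y hy hy1 =>
    inf_centralizer_eq_bot hp hq hpq.symm hVp h1 (orderOf_eq_prime hy.2 hy1)
  have haW : a ∈ W := ⟨haZ, hoa ▸ pow_orderOf_eq_one a⟩
  have hbW : b ∈ W := ⟨hbZ, by rw [hb, conj_pow, haW.2, mul_one, mul_inv_cancel]⟩
  have hba : b ∈ Subgroup.zpowers a := by
    have := hWf.mem_zpowers_of_commute hq (x := ⟨a, haW⟩) (y := ⟨b, hbW⟩)
      (by rw [← Subgroup.orderOf_coe]; exact hoa) (Subtype.ext hbW.2) (Subtype.ext (hcomm a haZ b hbZ))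
    obtain ⟨k, hk⟩ := this
    exact ⟨k, congrArg Subtype.val hk⟩
  -- the group of order q r
  set A := Subgroup.zpowers a with hA
  have hcA : Nat.card A = q := by rw [hA, Nat.card_zpowers, hoa]
  have hcZ : Nat.card (Subgroup.zpowers z) = r := by rw [Nat.card_zpowers, hz]
  have hzA : z ∈ Subgroup.normalizer (A : Set G) := by
    rw [Subgroup.mem_normalizer_iff_map_conj_eq]
    refine Subgroup.eq_of_le_of_card_ge ?_ ?_
    · rw [hA, MonoidHom.map_zpowers, Subgroup.zpowers_le]; exact hba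
    · exact (Nat.card_congr
        (Subgroup.equivMapOfInjective A (MulAut.conj z : G ≃* G).toMonoidHom
          (MulAut.conj z).injective).toEquiv).le
  set L := A ⊔ Subgroup.zpowers z with hL
  have hZN : Subgroup.zpowers z ≤ Subgroup.normalizer (A : Set G) := Subgroup.zpowers_le.2 hzA
  have hcop : Nat.Coprime (Nat.card A) (Nat.card (Subgroup.zpowers z)) := by
    rw [hcA, hcZ]; exact (Nat.coprime_primes hq hr).2 hqr
  have hdisj : A ⊓ Subgroup.zpowers z = ⊥ := Subgroup.inf_eq_bot_of_coprime hcop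
  have hcL : Nat.card L = q * r := by
    have hset : (L : Set G) = (A : Set G) * (Subgroup.zpowers z : Set G) := by
      rw [hL]; exact Subgroup.coe_mul_of_right_le_normalizer_left A (Subgroup.zpowers z) hZN
    have e : (↥A × ↥(Subgroup.zpowers z)) ≃ ↥L := Equiv.ofBijective
      (fun x => ⟨x.1 * x.2, mul_mem (Subgroup.mem_sup_left x.1.2) (Subgroup.mem_sup_right x.2.2)⟩)
      ⟨fun x y h => Subgroup.mul_injective_of_disjoint (disjoint_iff.2 hdisj) (congrArg Subtype.val h),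
        fun y => by
          obtain ⟨u, hu, v, hv, huv⟩ : (y : G) ∈ (A : Set G) * (Subgroup.zpowers z : Set G) :=
            hset ▸ y.2
          exact ⟨(⟨u, hu⟩, ⟨v, hv⟩), Subtype.ext huv⟩⟩
    rw [← Nat.card_congr e, Nat.card_prod, hcA, hcZ]
  have hLN : L ≤ Subgroup.normalizer (V : Set G) :=
    sup_le (Subgroup.zpowers_le.2 (hNV (hQP (mem_zent.1 haZ).1))) (Subgroup.zpowers_le.2 (hNV hzP))
  have hLf := isFPF_conj hLN fun y hy hy1 => by
    have hd : orderOf y ∣ q * r := hcL ▸ Subgroup.orderOf_dvd_natCard L hy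
    obtain ⟨d1, d2, hd1, hd2, he⟩ := exists_dvd_and_dvd_of_dvd_mul hd
    rcases (Nat.dvd_prime hq).1 hd1 with rfl | rfl <;> rcases (Nat.dvd_prime hr).1 hd2 with rfl | rfl
    · exact absurd (orderOf_eq_one_iff.1 (by simpa using he)) hy1
    · exact inf_centralizer_eq_bot hp hr hpr.symm hVp h2 (by simpa using he)
    · exact inf_centralizer_eq_bot hp hq hpq.symm hVp h1 (by simpa using he)
    · exact absurd ⟨y, he⟩ h3
  haveI := hLf.isCyclic_of_card_eq_mul hq hr hcL
  obtain ⟨g, hg⟩ := IsCyclic.exists_ofOrder_eq_natCard (α := ↥L)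
  exact h3 ⟨g, by rw [Subgroup.orderOf_coe, hg, hcL]⟩

/-- primes dividing the three layers of a normal series -/
theorem no_series {p q r : ℕ} (hp : p.Prime) (hq : q.Prime) (hr : r.Prime) (hpq : p ≠ q)
    (hpr : p ≠ r) (hqr : q ≠ r) (K M : Subgroup G) [K.Normal] [M.Normal] (hKM : K ≤ M)
    (hpK : p ∣ Nat.card K) (hqM : q ∣ K.relIndex M) (hrG : r ∣ M.index)
    (h1 : ¬ HasOrder G (p * q)) (h2 : ¬ HasOrder G (p * r)) (h3 : ¬ HasOrder G (q * r)) : False := by
  haveI := Fact.mk hp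
  haveI := Fact.mk hq
  haveI := Fact.mk hr
  obtain ⟨S⟩ := (inferInstance : Nonempty (Sylow p ↥K))
  set P : Subgroup G := (S : Subgroup ↥K).map K.subtype with hPd
  have hP1 : P ≠ ⊥ := by
    rw [hPd, Ne, Subgroup.map_eq_bot_iff_of_injective _ K.subtype_injective]
    exact S.ne_bot_of_dvd_card hpK
  have hfr : Subgroup.normalizer (P : Set G) ⊔ K = ⊤ := Sylow.normalizer_sup_eq_top S
  set N : Subgroup G := Subgroup.normalizer (P : Set G) with hN
  -- q divides the order of N ⊓ M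
  have hsupM : (N ⊓ M) ⊔ K = M := by
    refine le_antisymm (sup_le inf_le_right hKM) fun m hm => ?_
    have hm' : m ∈ N ⊔ K := hfr ▸ Subgroup.mem_top m
    obtain ⟨n, hn, k, hk, rfl⟩ := Subgroup.mem_sup_of_normal_right.1 hm'
    refine Subgroup.mul_mem_sup ⟨hn, ?_⟩ hk
    simpa using mul_mem hm (inv_mem (hKM hk))
  set M0 : Subgroup ↥N := M.subgroupOf N with hM0
  have hqM0 : q ∣ Nat.card M0 := by
    have : Nat.card M0 = Nat.card ↥(N ⊓ M) := by
      rw [hM0, inf_comm, ← Nat.card_congr (Subgroup.subgroupOfEquivOfLe (inf_le_right : M ⊓ N ≤ N)).toEquiv,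
        Subgroup.inf_subgroupOf_right]
    rw [this]
    have h : K.relIndex ((N ⊓ M) ⊔ K) = K.relIndex (N ⊓ M) := Subgroup.relIndex_sup_right _ _
    rw [hsupM] at h
    exact (h ▸ hqM).trans (K.relIndex_dvd_card (K := N ⊓ M))
  obtain ⟨T⟩ := (inferInstance : Nonempty (Sylow q ↥M0))
  set Q0 : Subgroup ↥N := (T : Subgroup ↥M0).map M0.subtype with hQ0
  have hfr2 : Subgroup.normalizer (Q0 : Set ↥N) ⊔ M0 = ⊤ := Sylow.normalizer_sup_eq_top T
  have hrN : r ∣ Nat.card ↥(Subgroup.normalizer (Q0 : Set ↥N)) := by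
    have hMN : N ⊔ M = ⊤ := top_le_iff.1 (hfr ▸ sup_le_sup_left hKM N)
    have e1 : M.relIndex (N ⊔ M) = M.relIndex N := Subgroup.relIndex_sup_right _ _
    rw [hMN, Subgroup.relIndex_top_right] at e1
    have e2 : M0.relIndex (Subgroup.normalizer (Q0 : Set ↥N) ⊔ M0) =
        M0.relIndex (Subgroup.normalizer (Q0 : Set ↥N)) := Subgroup.relIndex_sup_right _ _
    rw [hfr2, Subgroup.relIndex_top_right] at e2
    have e3 : M.index = M0.index := e1
    exact (e2 ▸ e3 ▸ hrG).trans (M0.relIndex_dvd_card (K := Subgroup.normalizer (Q0 : Set ↥N)))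
  obtain ⟨⟨z, hzQ⟩, hzo⟩ := exists_prime_orderOf_dvd_card' r hrN
  rw [← Subgroup.orderOf_coe] at hzo
  refine no_tower hp hq hr hpq hpr hqr P (Q0.map N.subtype) (S.2.map _) hP1 ((T.2.map _).map _) ?_ ?_
    (z : G) (by rw [Subgroup.orderOf_coe]; exact hzo) z.2
    (Q0.le_normalizer_map N.subtype ⟨z, hzQ, rfl⟩) h1 h2 h3
  · rw [Ne, Subgroup.map_eq_bot_iff_of_injective _ N.subtype_injective, hQ0,
      Subgroup.map_eq_bot_iff_of_injective _ M0.subtype_injective]
    exact T.ne_bot_of_dvd_card hqM0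
  · exact Subgroup.map_subtype_le _

/-- derived series starting from a subgroup -/
def dser (K : Subgroup G) : ℕ → Subgroup G
  | 0 => K
  | n + 1 => ⁅dser K n, dser K n⁆

omit [Finite G] in
theorem dser_normal (K : Subgroup G) [K.Normal] : ∀ n, (dser K n).Normal
  | 0 => ‹_›
  | n + 1 => by haveI := dser_normal K n; exact Subgroup.commutator_normal _ _

omit [Finite G] in
theorem dser_succ_le (K : Subgroup G) [K.Normal] (n : ℕ) : dser K (n + 1) ≤ dser K n := by
  haveI := dser_normal K n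
  exact Subgroup.commutator_le_left _ _

omit [Finite G] in
theorem dser_antitone (K : Subgroup G) [K.Normal] {m n : ℕ} (h : m ≤ n) : dser K n ≤ dser K m := by
  induction h with
  | refl => exact le_rfl
  | step _ ih => exact (dser_succ_le K _).trans ih

omit [Finite G] in
theorem dser_eventually_bot (K : Subgroup G) (hK : Group.IsSolvable ↥K) : ∃ n, dser K n = ⊥ := by
  obtain ⟨n, hn⟩ := hK.solvable
  have e : ∀ m, dser K m = (derivedSeries ↥K m).map K.subtype := by
    intro m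
    induction m with
    | zero => simp [dser, derivedSeries_zero, ← MonoidHom.range_eq_map]
    | succ m ih => rw [dser, derivedSeries_succ, Subgroup.map_commutator, ih]
  exact ⟨n, by rw [e, hn, Subgroup.map_bot]⟩

theorem dvd_card_of_le {H K : Subgroup G} {p : ℕ} (h : H ≤ K) (hp : p ∣ Nat.card H) :
    p ∣ Nat.card K := hp.trans (Subgroup.card_dvd_of_le h)

/-- two primes entering the same abelian layer are adjacent -/
theorem same_layer {p q : ℕ} (hp : p.Prime) (hq : q.Prime) (hpq : p ≠ q) (K : Subgroup G)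
    [K.Normal] (i : ℕ) (hpi : p ∣ Nat.card (dser K i)) (hqi : q ∣ Nat.card (dser K i))
    (hpn : ¬ p ∣ Nat.card (dser K (i + 1))) (hqn : ¬ q ∣ Nat.card (dser K (i + 1))) :
    HasOrder G (p * q) := by
  haveI := Fact.mk hp
  haveI := Fact.mk hq
  haveI := dser_normal K (i + 1)
  obtain ⟨⟨x, hx⟩, hxo⟩ := exists_prime_orderOf_dvd_card' p hpi
  obtain ⟨⟨y, hy⟩, hyo⟩ := exists_prime_orderOf_dvd_card' q hqi
  rw [← Subgroup.orderOf_coe] at hxo hyo
  set π := QuotientGroup.mk' (dser K (i + 1)) with hπ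
  have hne : ∀ (l : ℕ) (w : G), l.Prime → orderOf w = l → ¬ l ∣ Nat.card (dser K (i + 1)) →
      orderOf (π w) = l := by
    intro l w hl hw hln
    rcases (Nat.dvd_prime hl).1 (hw ▸ orderOf_map_dvd π w) with h | h
    · rw [orderOf_eq_one_iff] at h
      exact absurd (hw ▸ Subgroup.orderOf_dvd_natCard _
        (show w ∈ dser K (i + 1) from (QuotientGroup.eq_one_iff w).1 h)) hln
    · exact h
  have hc : Commute (π x) (π y) := by
    have : ⁅x, y⁆ ∈ dser K (i + 1) := Subgroup.commutator_mem_commutator hx hy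
    have h1 : π ⁅x, y⁆ = 1 := (QuotientGroup.eq_one_iff _).2 this
    rw [map_commutatorElement, commutatorElement_eq_one_iff_commute] at h1
    exact h1
  have ho : orderOf (π (x * y)) = p * q := by
    rw [map_mul, hc.orderOf_mul_eq_mul_orderOf_of_coprime, hne p x hp hxo hpn, hne q y hq hyo hqn]
    rw [hne p x hp hxo hpn, hne q y hq hyo hqn]
    exact (Nat.coprime_primes hp hq).2 hpq
  exact hasOrder_of_dvd (Nat.mul_ne_zero hp.ne_zero hq.ne_zero) (ho ▸ orderOf_map_dvd π (x * y))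

omit [Finite G] in
theorem exists_level (K : Subgroup G) (hK : Group.IsSolvable ↥K) (P : Subgroup G → Prop)
    (h0 : P K) (hbot : ¬ P ⊥) : ∃ i, P (dser K i) ∧ ¬ P (dser K (i + 1)) := by
  classical
  by_contra h
  push Not at h
  obtain ⟨n, hn⟩ := dser_eventually_bot K hK
  exact hbot (hn ▸ (show ∀ m, P (dser K m) from fun m => Nat.rec h0 (fun j ih => h j ih) m) n)

theorem two_below_top {p q r : ℕ} (hp : p.Prime) (hq : q.Prime) (hr : r.Prime) (hpq : p ≠ q)
    (hpr : p ≠ r) (hqr : q ≠ r) (K : Subgroup G) [K.Normal] (hK : Group.IsSolvable ↥K)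
    (hpK : p ∣ Nat.card K) (hqK : q ∣ Nat.card K) (hrK : ¬ r ∣ Nat.card K) (hrG : r ∣ Nat.card G)
    (h1 : ¬ HasOrder G (p * q)) (h2 : ¬ HasOrder G (p * r)) (h3 : ¬ HasOrder G (q * r)) : False := by
  have hrI : r ∣ K.index := by
    rw [← K.card_mul_index] at hrG
    exact ((Nat.Prime.dvd_mul hr).1 hrG).resolve_left hrK
  obtain ⟨i, hi, hni⟩ := exists_level K hK (fun H => p ∣ Nat.card H ∨ q ∣ Nat.card H) (Or.inl hpK)
    (by simp [hp.ne_one, hq.ne_one])
  push Not at hni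
  haveI := dser_normal K i
  have hle : dser K i ≤ K := dser_antitone K (Nat.zero_le i)
  have hrel : ∀ l : ℕ, l.Prime → l ∣ Nat.card K → ¬ l ∣ Nat.card (dser K i) →
      l ∣ (dser K i).relIndex K := by
    intro l hl hlK hli
    rw [← card_mul_relIndex' hle] at hlK
    exact ((Nat.Prime.dvd_mul hl).1 hlK).resolve_left hli
  by_cases hpi : p ∣ Nat.card (dser K i)
  · by_cases hqi : q ∣ Nat.card (dser K i)
    · exact h1 (same_layer hp hq hpq K i hpi hqi hni.1 hni.2)
    · exact no_series hp hq hr hpq hpr hqr _ K hle hpi (hrel q hq hqK hqi) hrI h1 h2 h3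
  · exact no_series hq hp hr hpq.symm hqr hpr _ K hle (hi.resolve_left hpi) (hrel p hp hpK hpi) hrI
      (hasOrder_comm h1) h3 h2

theorem solvable_aux {p q r : ℕ} (hp : p.Prime) (hq : q.Prime) (hr : r.Prime) (hpq : p ≠ q)
    (hpr : p ≠ r) (hqr : q ≠ r) (K : Subgroup G) [K.Normal] (hK : Group.IsSolvable ↥K)
    (i : ℕ) (hpi : p ∣ Nat.card (dser K i)) (hqi : ¬ q ∣ Nat.card (dser K i))
    (hri : ¬ r ∣ Nat.card (dser K i)) (hqK : q ∣ Nat.card K) (hrK : r ∣ Nat.card K)
    (h1 : ¬ HasOrder G (p * q)) (h2 : ¬ HasOrder G (p * r)) (h3 : ¬ HasOrder G (q * r)) : False := by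
  obtain ⟨j, hj, hnj⟩ := exists_level K hK (fun H => q ∣ Nat.card H ∨ r ∣ Nat.card H) (Or.inl hqK)
    (by simp [hq.ne_one, hr.ne_one])
  push Not at hnj
  haveI := dser_normal K i
  haveI := dser_normal K j
  have hji : j < i := by
    by_contra hlt
    rcases hj with h | h
    · exact hqi (dvd_card_of_le (dser_antitone K (by omega)) h)
    · exact hri (dvd_card_of_le (dser_antitone K (by omega)) h)
  have hle : dser K i ≤ dser K j := dser_antitone K hji.le
  have hrel : ∀ l : ℕ, l.Prime → l ∣ Nat.card (dser K j) → ¬ l ∣ Nat.card (dser K i) →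
      l ∣ (dser K i).relIndex (dser K j) := by
    intro l hl hlj hli
    rw [← card_mul_relIndex' hle] at hlj
    exact ((Nat.Prime.dvd_mul hl).1 hlj).resolve_left hli
  have hidx : ∀ l : ℕ, l.Prime → l ∣ Nat.card K → ¬ l ∣ Nat.card (dser K j) →
      l ∣ (dser K j).index := by
    intro l hl hlK hlj
    have := hlK.trans K.card_subgroup_dvd_card
    rw [← (dser K j).card_mul_index] at this
    exact ((Nat.Prime.dvd_mul hl).1 this).resolve_left hlj
  by_cases hqj : q ∣ Nat.card (dser K j)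
  · by_cases hrj : r ∣ Nat.card (dser K j)
    · exact h3 (same_layer hq hr hqr K j hqj hrj hnj.1 hnj.2)
    · exact no_series hp hq hr hpq hpr hqr _ _ hle hpi (hrel q hq hqj hqi) (hidx r hr hrK hrj) h1 h2 h3
  · exact no_series hp hr hq hpr hpq hqr.symm _ _ hle hpi
      (hrel r hr (hj.resolve_left hqj) hri) (hidx q hq hqK hqj) h2 h1 (hasOrder_comm h3)

/-- A solvable normal subgroup contains no three pairwise non-adjacent primes. -/
theorem three_in_solvable {p q r : ℕ} (hp : p.Prime) (hq : q.Prime) (hr : r.Prime) (hpq : p ≠ q)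
    (hpr : p ≠ r) (hqr : q ≠ r) (K : Subgroup G) [K.Normal] (hK : Group.IsSolvable ↥K)
    (hpK : p ∣ Nat.card K) (hqK : q ∣ Nat.card K) (hrK : r ∣ Nat.card K)
    (h1 : ¬ HasOrder G (p * q)) (h2 : ¬ HasOrder G (p * r)) (h3 : ¬ HasOrder G (q * r)) : False := by
  obtain ⟨i, hi, hni⟩ := exists_level K hK
    (fun H => p ∣ Nat.card H ∨ q ∣ Nat.card H ∨ r ∣ Nat.card H) (Or.inl hpK)
    (by simp [hp.ne_one, hq.ne_one, hr.ne_one])
  push Not at hni
  by_cases hpi : p ∣ Nat.card (dser K i)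
  · by_cases hqi : q ∣ Nat.card (dser K i)
    · exact h1 (same_layer hp hq hpq K i hpi hqi hni.1 hni.2.1)
    · by_cases hri : r ∣ Nat.card (dser K i)
      · exact h2 (same_layer hp hr hpr K i hpi hri hni.1 hni.2.2)
      · exact solvable_aux hp hq hr hpq hpr hqr K hK i hpi hqi hri hqK hrK h1 h2 h3
  · by_cases hqi : q ∣ Nat.card (dser K i)
    · by_cases hri : r ∣ Nat.card (dser K i)
      · exact h3 (same_layer hq hr hqr K i hqi hri hni.2.1 hni.2.2)
      · exact solvable_aux hq hp hr hpq.symm hqr hpr K hK i hqi hpi hri hpK hrK (hasOrder_comm h1) h3 h2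
    · have hri := (hi.resolve_left hpi).resolve_left hqi
      exact solvable_aux hr hp hq hpr.symm hqr.symm hpq K hK i hri hpi hqi hpK hqK
        (hasOrder_comm h2) (hasOrder_comm h3) h1

/-- Two of three pairwise non-adjacent primes cannot divide a solvable normal subgroup. -/
theorem not_two_in_solvable {p q r : ℕ} (hp : p.Prime) (hq : q.Prime) (hr : r.Prime) (hpq : p ≠ q)
    (hpr : p ≠ r) (hqr : q ≠ r) (K : Subgroup G) [K.Normal] (hK : Group.IsSolvable ↥K)
    (hpK : p ∣ Nat.card K) (hqK : q ∣ Nat.card K) (hrG : r ∣ Nat.card G)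
    (h1 : ¬ HasOrder G (p * q)) (h2 : ¬ HasOrder G (p * r)) (h3 : ¬ HasOrder G (q * r)) : False := by
  by_cases hrK : r ∣ Nat.card K
  · exact three_in_solvable hp hq hr hpq hpr hqr K hK hpK hqK hrK h1 h2 h3
  · exact two_below_top hp hq hr hpq hpr hqr K hK hpK hqK hrK hrG h1 h2 h3

theorem not_isSolvable_of_three {p q r : ℕ} (hp : p.Prime) (hq : q.Prime) (hr : r.Prime)
    (hpq : p ≠ q) (hpr : p ≠ r) (hqr : q ≠ r) (hpG : p ∣ Nat.card G) (hqG : q ∣ Nat.card G)
    (hrG : r ∣ Nat.card G) (h1 : ¬ HasOrder G (p * q)) (h2 : ¬ HasOrder G (p * r))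
    (h3 : ¬ HasOrder G (q * r)) : ¬ Group.IsSolvable G := fun h => by
  haveI := h
  exact three_in_solvable hp hq hr hpq hpr hqr (⊤ : Subgroup G) inferInstance
    (by simpa using hpG) (by simpa using hqG) (by simpa using hrG) h1 h2 h3

end Cfsg.Agent.Lib.PrimeGraph.Three
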